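import Groth.Agent.StkCntLib.TwistLang
import Groth.Agent.StkCntLib.Frob
import Groth.Agent.StkCntLib.GalPts
import Groth.Agent.StkCntLib.Desc
import Groth.Prelude.Def_NonAbH2

/-!
# First Galois cohomology and connected normal subgroups over finite fields
-/

set_option autoImplicit false
set_option backward.isDefEq.respectTransparency false
set_option backward.isDefEq.respectTransparency.types false
set_option linter.unusedSectionVars false
set_option linter.style.haveILetI false

universe u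

open CategoryTheory CategoryTheory.Limits AlgebraicGeometry MonObj CartesianMonoidalCategory
open scoped MonoidalCategory

noncomputable section

namespace Groth.Agent.GalTw16

open Groth.Agent StkCntLib

section Ker

variable {S : Scheme.{u}} {A B C : Over S} [GrpObj A] [GrpObj B] [GrpObj C]
  {i : A ⟶ B} {π : B ⟶ C} [IsMonHom i] [IsMonHom π]

theorem comp_whisker_mul {T : Over S} (l : T ⟶ B ⊗ A) (i : A ⟶ B) :
    l ≫ (B ◁ i) ≫ μ[B] = (l ≫ fst B A) * ((l ≫ snd B A) ≫ i) := by
  rw [Hom.mul_def, ← Category.assoc]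
  congr 1
  ext <;> simp

theorem exists_lift_kernel {K : Precoverage Scheme.{u}} (h : NonAbH1.IsExactSeq K i π) {T : Over S}
    (x : T ⟶ B) (hx : x ≫ π = 1) : ∃ y : T ⟶ A, y ≫ i = x := by
  have w : (1 : T ⟶ B) ≫ π = x ≫ π := by rw [MonObj.one_comp, hx]
  refine ⟨h.2.2.2.1.lift 1 x w ≫ snd B A, ?_⟩
  have h1 := h.2.2.2.1.lift_snd 1 x w
  rw [comp_whisker_mul, h.2.2.2.1.lift_fst, _root_.one_mul] at h1
  exact h1

theorem mono_kernel {K : Precoverage Scheme.{u}} (h : NonAbH1.IsExactSeq K i π) : Mono i := by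
  refine ⟨fun {T} x y hxy => ?_⟩
  have h1 : lift (1 : T ⟶ B) x = lift (1 : T ⟶ B) y := by
    refine h.2.2.2.1.hom_ext (by simp) ?_
    rw [comp_whisker_mul, comp_whisker_mul, lift_fst, lift_snd, lift_fst, lift_snd, hxy]
  simpa using congrArg (· ≫ snd B A) h1

theorem exists_conj {K : Precoverage Scheme.{u}} (h : NonAbH1.IsExactSeq K i π) :
    ∃ c : AlgGrp.Action B A, c.act ≫ i = fst B A * (snd B A ≫ i) * (fst B A)⁻¹ := by
  have hπ : (fst B A * (snd B A ≫ i) * (fst B A)⁻¹) ≫ π = 1 := by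
    rw [MonObj.mul_comp, MonObj.mul_comp, GrpObj.inv_comp, Category.assoc, h.2.2.1, MonObj.comp_one,
      _root_.mul_one, mul_inv_cancel]
  obtain ⟨g, hg⟩ := exists_lift_kernel h _ hπ
  have := mono_kernel h
  refine ⟨⟨g, ?_, ?_⟩, hg⟩
  · rw [← cancel_mono i, Category.assoc, hg, MonObj.comp_mul, MonObj.comp_mul, GrpObj.comp_inv]
    have e : (η[B] ▷ A) ≫ fst B A = (1 : 𝟙_ (Over S) ⊗ A ⟶ B) := by
      rw [Hom.one_def, whiskerRight_fst]
      congr 1
    rw [e, _root_.one_mul, inv_one, _root_.mul_one, whiskerRight_snd_assoc, leftUnitor_hom]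
  · rw [← cancel_mono i, Category.assoc, Category.assoc, Category.assoc, hg]
    have e : (μ[B] ▷ A) ≫ fst (B) A = (fst (B ⊗ B) A ≫ fst B B) * (fst (B ⊗ B) A ≫ snd B B) := by
      rw [whiskerRight_fst, Hom.mul_def, ← comp_lift, lift_fst_snd, Category.comp_id]
    simp only [MonObj.comp_mul, GrpObj.comp_inv, whiskerLeft_fst, whiskerLeft_snd_assoc, associator_hom_fst,
      associator_hom_fst_assoc, hg, e, whiskerRight_snd_assoc, mul_inv_rev, Category.assoc,
      associator_hom_snd_fst, associator_hom_snd_snd_assoc]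
    group

end Ker

variable {k : Type u} [Field k] {kb : Type u} [Field kb] [Algebra k kb]

/-- A locally trivial morphism is surjective on points over an algebraically closed field. -/
theorem pts_surjective [IsAlgClosed kb] {B C : Over (Spec (CommRingCat.of k))} [LocallyOfFiniteType B.hom]
    (π : B ⟶ C) (h : NonAbH1.IsLocallyTrivialFor Scheme.fppfPrecoverage (Over.mk π.left : Over C.left)) :
    Function.Surjective (fun b : SGA7.Pts kb B => b ≫ π) := by
  intro c
  obtain ⟨R, hR, hsec⟩ := h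
  have : LocallyOfFiniteType π.left := by
    have : LocallyOfFiniteType (π.left ≫ C.hom) := by rw [Over.w π]; infer_instance
    exact locallyOfFiniteType_of_comp π.left C.hom
  let x := c.left (IsLocalRing.closedPoint kb)
  obtain ⟨S', f, hf, y, hy⟩ : ∃ (S' : Scheme.{u}) (f : S' ⟶ C.left), R f ∧ ∃ y, f y = x := by
    obtain ⟨J, Z, g, rfl⟩ := R.exists_eq_ofArrows
    obtain ⟨hs, -⟩ := (Scheme.ofArrows_mem_precoverage_iff _).1 hR
    obtain ⟨i, y, hy⟩ := hs x
    exact ⟨Z i, g i, ⟨i⟩, y, hy⟩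
  obtain ⟨s, hs⟩ := hsec f hf
  obtain ⟨t, -, -⟩ := Scheme.Pullback.exists_preimage_pullback (f := π.left) (g := c.left) (s y)
    (IsLocalRing.closedPoint kb) ((congrArg (fun q : S' ⟶ C.left => q y) hs).trans hy)
  let P := pullback π.left c.left
  let q : P ⟶ Spec (CommRingCat.of kb) := pullback.snd π.left c.left
  have : LocallyOfFiniteType q := MorphismProperty.pullback_snd π.left c.left inferInstance
  have : JacobsonSpace P := LocallyOfFiniteType.jacobsonSpace q
  obtain ⟨p₀, -, hp₀⟩ := nonempty_inter_closedPoints (X := P) (Z := Set.univ) ⟨t, trivial⟩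
    isClosed_univ.isLocallyClosed
  let W : Over (Spec (CommRingCat.of kb)) := Over.mk q
  haveI : LocallyOfFiniteType W.hom := inferInstanceAs (LocallyOfFiniteType q)
  obtain ⟨w, -⟩ := exists_pts (K := kb) (Y := W) (y := p₀) hp₀
  have hw : w.left ≫ q = 𝟙 _ := by
    have h1 : w.left ≫ W.hom = Spec.map (CommRingCat.ofHom (algebraMap kb kb)) := Over.w w
    exact h1.trans (by rw [Algebra.algebraMap_self]; exact Spec.map_id _)
  refine ⟨Over.homMk (w.left ≫ pullback.fst π.left c.left) ?_, Over.OverMorphism.ext ?_⟩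
  · rw [Category.assoc, ← Over.w π, pullback.condition_assoc, reassoc_of% hw]
    exact Over.w c
  · show (w.left ≫ pullback.fst π.left c.left) ≫ π.left = c.left
    rw [Category.assoc, pullback.condition, reassoc_of% hw]

variable [Finite k] [IsAlgClosure k kb]
variable {A B C : Over (Spec (CommRingCat.of k))} [GrpObj A] [GrpObj B] [GrpObj C]

theorem bijective [Smooth A.hom] [ConnectedSpace A.left] [LocallyOfFiniteType B.hom] [QuasiCompact B.hom]
    [LocallyOfFiniteType C.hom] (i : A ⟶ B) (π : B ⟶ C) [IsMonHom i] [IsMonHom π]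
    (hex : NonAbH1.IsExactSeq Scheme.fppfPrecoverage i π) :
    Function.Bijective (GalTw.H1lcMap (GalTw.ptsMap (K := kb) π) (GalTw.ptsMap_smul (K := kb) π)) := by
  haveI : IsAlgClosed kb := IsAlgClosure.isAlgClosed k
  haveI : IsGalois k kb := Frob.isGalois_algClosure
  obtain ⟨σ, hσ⟩ := Frob.exists_frobenius (k := k) (K := kb)
  have hB := fun g : SGA7.Pts kb B => isOpen_stabilizer g
  have hC := fun g : SGA7.Pts kb C => isOpen_stabilizer g
  have surj := pts_surjective (kb := kb) π hex.2.2.2.2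
  haveI := mono_kernel hex
  obtain ⟨c, hc⟩ := exists_conj hex
  constructor
  · intro z₁ z₂ he
    induction z₁ using Quotient.inductionOn with | h a₁ =>
    induction z₂ using Quotient.inductionOn with | h a₂ =>
    obtain ⟨g, hg⟩ := (Frob.cohomologous_iff hσ hC _ _).1 he
    obtain ⟨h, rfl⟩ := surj g
    refine (Frob.cohomologous_iff hσ hB a₁ a₂).2 ?_
    have hg' : a₂.1 σ ≫ π = (h ≫ π) * (a₁.1 σ ≫ π) * (σ • (h ≫ π))⁻¹ := hg
    let b := h * a₁.1 σ * (σ • h)⁻¹
    have hu : (a₂.1 σ * b⁻¹) ≫ π = 1 := by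
      show GalTw.ptsMap (K := kb) π (a₂.1 σ * b⁻¹) = 1
      rw [map_mul, map_inv]
      refine mul_inv_eq_one.2 (hg'.trans ?_)
      show _ = GalTw.ptsMap (K := kb) π (h * a₁.1 σ * (σ • h)⁻¹)
      rw [map_mul, map_mul, map_inv, GalTw.ptsMap_smul]
      rfl
    obtain ⟨u, hu'⟩ := exists_lift_kernel hex _ hu
    obtain ⟨v, hv⟩ := twisted_lang i c hc hσ b u
    refine ⟨(v ≫ i)⁻¹ * h, ?_⟩
    rw [hu', inv_mul_cancel_right] at hv
    rw [← hv]
    simp only [b, _root_.smul_mul', smul_inv', mul_inv_rev, inv_inv, _root_.mul_assoc]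
  · intro z
    induction z using Quotient.inductionOn with | h a =>
    obtain ⟨b, hb⟩ := surj (a.1 σ)
    obtain ⟨w, hw⟩ := Frob.exists_cocycle hσ hB exists_finite_stable b
    refine ⟨w.cl, ?_⟩
    refine (Frob.cohomologous_iff hσ hC _ a).2 ⟨1, ?_⟩
    show a.1 σ = 1 * (GalTw.ptsMap (K := kb) π (w.1 σ)) * (σ • (1 : SGA7.Pts kb C))⁻¹
    rw [smul_one, inv_one, _root_.mul_one, _root_.one_mul, hw]
    exact hb.symm

end Groth.Agent.GalTw16
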